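import Mathlib
import Cfsg.Prelude.Def_MonsterType
import Cfsg.Agent.Lib.Helper1.MonQ3
import Cfsg.Agent.Lib.Helper3.Components7
import Cfsg.Agent.S5593
import Cfsg.Agent.S1570
import Cfsg.Agent.S0391
import Cfsg.Agent.S0392
import Cfsg.Agent.S0400

/-!
# Groups of Monster type: transitivity of `C_G(z)` on classes of involutions of `Q`

Given the description of the conjugates of `z` inside `Q` (taken as a hypothesis `h5407`), the centralizer of `z`
is transitive on the conjugates of `z` in `Q` other than `z`, and on the involutions of `Q` not conjugate to `z`.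
-/

set_option autoImplicit false

namespace Cfsg.Agent.Lib.Helper5.Mon

open Cfsg
open scoped commutatorElement

variable {G : Type*} [Group G] {z : G} {Q : Subgroup (Subgroup.centralizer ({z} : Set G))}

theorem z_mem_cent : z ∈ Subgroup.centralizer ({z} : Set G) := by
  rw [Subgroup.mem_centralizer_iff]
  intro y hy
  rw [Set.mem_singleton_iff] at hy
  rw [hy]

theorem z_mem [Finite G]
    (hF : generalizedFittingSubgroup (Subgroup.centralizer ({z} : Set G)) = Q) :
    (⟨z, z_mem_cent⟩ : Subgroup.centralizer ({z} : Set G)) ∈ Q := by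
  rw [← hF]
  apply Cfsg.Agent.Lib.Helper3.centralizer_generalizedFittingSubgroup_le
    (G := ↥(Subgroup.centralizer ({z} : Set G)))
  rw [Subgroup.mem_centralizer_iff]
  intro f _
  apply Subtype.ext
  have hf := f.2
  rw [Subgroup.mem_centralizer_iff] at hf
  exact (hf z rfl).symm

theorem mem_center_iff [Finite G] (hz2 : orderOf z = 2)
    (hF : generalizedFittingSubgroup (Subgroup.centralizer ({z} : Set G)) = Q)
    (hE : IsExtraspecial 2 Q) (x : Q) :
    x ∈ Subgroup.center Q ↔ x = 1 ∨ ((x : Subgroup.centralizer ({z} : Set G)) : G) = z := by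
  set z' : Q := ⟨⟨z, z_mem_cent⟩, z_mem hF⟩ with hz'
  have hz'c : z' ∈ Subgroup.center Q := by
    rw [Subgroup.mem_center_iff]
    intro g
    apply Subtype.ext
    apply Subtype.ext
    have hf := (g : Subgroup.centralizer ({z} : Set G)).2
    rw [Subgroup.mem_centralizer_iff] at hf
    exact (hf z rfl).symm
  have hz'1 : z' ≠ 1 := by
    intro h
    have h1 : z = 1 := congrArg (fun q : Q => ((q : Subgroup.centralizer ({z} : Set G)) : G)) h
    rw [h1, orderOf_one] at hz2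
    exact absurd hz2 (by decide)
  constructor
  · intro hx
    by_cases h1 : x = 1
    · exact Or.inl h1
    · right
      have := Cfsg.Agent.Lib.Helper1.MonQ.center_two hE.2 hx hz'c h1 hz'1
      rw [this]
  · rintro (h | h)
    · rw [h]; exact one_mem _
    · have : x = z' := by
        apply Subtype.ext
        apply Subtype.ext
        exact h
      rw [this]; exact hz'c

variable [Q.Normal]

theorem conj_fix [Finite G] (hE : IsExtraspecial 2 Q) (s' t' : Q) (h : Subgroup.centralizer ({z} : Set G))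
    (hst : (QuotientGroup.mk (⟨h * s' * h⁻¹, (inferInstance : Q.Normal).conj_mem
        (s' : Subgroup.centralizer ({z} : Set G)) s'.2 h⟩ : Q) : Q ⧸ Subgroup.center Q)
      = QuotientGroup.mk t')
    (hnc : t' ∉ Subgroup.center Q) :
    ∃ h' : Subgroup.centralizer ({z} : Set G),
      h' * (s' : Subgroup.centralizer ({z} : Set G)) * h'⁻¹ = (t' : Subgroup.centralizer ({z} : Set G)) := by
  set u : Q := ⟨h * s' * h⁻¹, (inferInstance : Q.Normal).conj_mem
        (s' : Subgroup.centralizer ({z} : Set G)) s'.2 h⟩ with hu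
  have hc : u⁻¹ * t' ∈ Subgroup.center Q := QuotientGroup.eq.mp hst
  by_cases h1 : u⁻¹ * t' = 1
  · refine ⟨h, ?_⟩
    have h2 : u = t' := by rw [inv_mul_eq_one] at h1; exact h1
    exact congrArg Subtype.val h2
  · have hex : ∃ q : Q, q * t' ≠ t' * q := by
      by_contra hcon
      push Not at hcon
      exact hnc (Subgroup.mem_center_iff.mpr hcon)
    obtain ⟨q, hq⟩ := hex
    have hcomm : ⁅q, t'⁆ ∈ Subgroup.center Q := Cfsg.Agent.Lib.Helper1.MonQ.comm_mem_center hE q t'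
    have hne : ⁅q, t'⁆ ≠ 1 := by
      intro h2
      apply hq
      rw [commutatorElement_eq_one_iff_mul_comm] at h2
      exact h2
    have heq : ⁅q, t'⁆ = u⁻¹ * t' := Cfsg.Agent.Lib.Helper1.MonQ.center_two hE.2 hcomm hc hne h1
    have gen : ∀ c : Q, c = q * t' * q⁻¹ * t'⁻¹ → (∀ g, g * c = c * g) →
        q * (t' * c⁻¹) * q⁻¹ = t' := by
      intro c hcdef hcen
      have e1 : q * t' * q⁻¹ = c * t' := by rw [hcdef]; group
      have e2 : c⁻¹ * q⁻¹ = q⁻¹ * c⁻¹ := by
        rw [← mul_inv_rev, ← mul_inv_rev, hcen q]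
      calc q * (t' * c⁻¹) * q⁻¹ = q * t' * (c⁻¹ * q⁻¹) := by group
        _ = q * t' * q⁻¹ * c⁻¹ := by rw [e2]; group
        _ = c * t' * c⁻¹ := by rw [e1]
        _ = t' * c * c⁻¹ := by rw [hcen t']
        _ = t' := by group
    have key : q * u * q⁻¹ = t' := by
      have hu' : u = t' * (⁅q, t'⁆)⁻¹ := by rw [heq]; group
      rw [hu']
      exact gen _ (commutatorElement_def q t') (Subgroup.mem_center_iff.mp hcomm)
    refine ⟨(q : Subgroup.centralizer ({z} : Set G)) * h, ?_⟩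
    have k2 := congrArg Subtype.val key
    simp only [Subgroup.coe_mul, Subgroup.coe_inv] at k2
    rw [← k2, hu]
    simp only
    group

theorem lift_conj {e : (Subgroup.centralizer ({z} : Set G)) ⧸ Q ≃* Spor.Co1}
    {ψ : leechLattice → Q ⧸ Subgroup.center Q} (hψ : IsLeechModTwoIso Q e ψ)
    (s' t' : Q) (vs vt : leechLattice) (hs : ψ vs = QuotientGroup.mk s')
    (ht : ψ vt = QuotientGroup.mk t') (g : Co0) (hg : ψ (g • vs) = ψ vt) :
    ∃ h : Subgroup.centralizer ({z} : Set G),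
      (QuotientGroup.mk (⟨h * s' * h⁻¹, (inferInstance : Q.Normal).conj_mem
        (s' : Subgroup.centralizer ({z} : Set G)) s'.2 h⟩ : Q) : Q ⧸ Subgroup.center Q)
      = QuotientGroup.mk t' := by
  obtain ⟨hadd, hsurj, hker, hequiv⟩ := hψ
  obtain ⟨h, hh⟩ := QuotientGroup.mk_surjective (e.symm (QuotientGroup.mk g : Spor.Co1))
  refine ⟨h, ?_⟩
  have h1 := hequiv h g (by rw [hh, MulEquiv.apply_symm_apply]) vs s' hs
  rw [← h1, hg, ht]

theorem psi_congr {e : (Subgroup.centralizer ({z} : Set G)) ⧸ Q ≃* Spor.Co1}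
    {ψ : leechLattice → Q ⧸ Subgroup.center Q} (hψ : IsLeechModTwoIso Q e ψ)
    (a b : leechLattice) (w : GolayPt → ℤ) (hw : w ∈ leechLattice)
    (hab : (a : GolayPt → ℤ) - (b : GolayPt → ℤ) = 2 • w) : ψ a = ψ b := by
  obtain ⟨hadd, hsurj, hker, hequiv⟩ := hψ
  have h1 : a = b + ((⟨w, hw⟩ : leechLattice) + ⟨w, hw⟩) := by
    apply Subtype.ext
    simp only [AddSubgroup.coe_add]
    rw [← two_smul ℕ w, ← hab]
    abel
  rw [h1, hadd, (hker _).mpr ⟨_, rfl⟩, mul_one]

theorem hinv_of [Finite G] {e : (Subgroup.centralizer ({z} : Set G)) ⧸ Q ≃* Spor.Co1}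
    {ψ : leechLattice → Q ⧸ Subgroup.center Q} (hψ : IsLeechModTwoIso Q e ψ) :
    ∀ g : Co0, ∃ α : Q → Q, (∀ q : Q, (α q) ^ 2 = 1 ↔ q ^ 2 = 1) ∧
      ∀ (v : leechLattice) (q : Q), ψ v = QuotientGroup.mk q → ψ (g • v) = QuotientGroup.mk (α q) := by
  obtain ⟨hadd, hsurj, hker, hequiv⟩ := hψ
  intro g
  obtain ⟨h, hh⟩ := QuotientGroup.mk_surjective (e.symm (QuotientGroup.mk g : Spor.Co1))
  refine ⟨fun q => ⟨h * q * h⁻¹, (inferInstance : Q.Normal).conj_mem
    (q : Subgroup.centralizer ({z} : Set G)) q.2 h⟩, ?_, ?_⟩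
  · intro q
    have hc : ∀ x : Subgroup.centralizer ({z} : Set G), (h * x * h⁻¹) ^ 2 = 1 ↔ x ^ 2 = 1 := by
      intro x
      rw [conj_pow]
      constructor
      · intro hx
        have : x ^ 2 = h⁻¹ * (h * x ^ 2 * h⁻¹) * h := by group
        rw [this, hx]; group
      · intro hx
        rw [hx]; group
    constructor
    · intro hq
      have h1 := congrArg Subtype.val hq
      apply Subtype.ext
      simp only [Subgroup.coe_pow, Subgroup.coe_one] at h1 ⊢
      exact (hc q).mp h1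
    · intro hq
      have h1 := congrArg Subtype.val hq
      apply Subtype.ext
      simp only [Subgroup.coe_pow, Subgroup.coe_one] at h1 ⊢
      exact (hc q).mpr h1
  · intro v q hq
    apply hequiv h g _ v q hq
    rw [hh, MulEquiv.apply_symm_apply]

/-- Transitivity on the conjugates of `z` in `Q` other than `z`. -/
theorem trans_conj [Finite G] (hM : IsOfMonsterType z Q)
    (h5407 : ∀ (e : (Subgroup.centralizer ({z} : Set G)) ⧸ Q ≃* Spor.Co1)
      (ψ : leechLattice → Q ⧸ Subgroup.center Q) (_ : IsLeechModTwoIso Q e ψ) (x : Q),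
      (IsConj z ((x : Subgroup.centralizer ({z} : Set G)) : G) ∧
        ((x : Subgroup.centralizer ({z} : Set G)) : G) ≠ z) ↔
      ∃ v : leechLattice, sqNorm (v : GolayPt → ℤ) = 64 ∧ ψ v = QuotientGroup.mk x)
    (s t : G)
    (hsQ : ∃ hsc : s ∈ Subgroup.centralizer ({z} : Set G),
      (⟨s, hsc⟩ : Subgroup.centralizer ({z} : Set G)) ∈ Q)
    (htQ : ∃ htc : t ∈ Subgroup.centralizer ({z} : Set G),
      (⟨t, htc⟩ : Subgroup.centralizer ({z} : Set G)) ∈ Q)
    (hs : IsConj z s) (ht : IsConj z t) (hs1 : s ≠ z) (ht1 : t ≠ z) :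
    ∃ h ∈ Subgroup.centralizer ({z} : Set G), h * s * h⁻¹ = t := by
  obtain ⟨⟨hz2, hF, hE, -, -⟩, e, ψ, hψ⟩ := hM
  obtain ⟨hsc, hsQ'⟩ := hsQ
  obtain ⟨htc, htQ'⟩ := htQ
  set s' : Q := ⟨⟨s, hsc⟩, hsQ'⟩ with hs'
  set t' : Q := ⟨⟨t, htc⟩, htQ'⟩ with ht'
  obtain ⟨vs, hvs64, hvs⟩ := (h5407 e ψ hψ s').mp ⟨hs, hs1⟩
  obtain ⟨vt, hvt64, hvt⟩ := (h5407 e ψ hψ t').mp ⟨ht, ht1⟩
  obtain ⟨g, w, hw, hgw⟩ := Cfsg.Agent.S5593.result vs vt hvs64 hvt64
  have hg : ψ (g • vs) = ψ vt := psi_congr hψ _ _ w hw hgw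
  have hnc : t' ∉ Subgroup.center Q := by
    intro hcen
    rcases (mem_center_iff hz2 hF hE t').mp hcen with h | h
    · have h1 : t = 1 := congrArg (fun q : Q => ((q : Subgroup.centralizer ({z} : Set G)) : G)) h
      rw [h1, isConj_one_left] at ht
      rw [ht, orderOf_one] at hz2
      exact absurd hz2 (by decide)
    · exact ht1 h
  obtain ⟨h, hh⟩ := lift_conj hψ s' t' vs vt hvs hvt g hg
  obtain ⟨h', hh'⟩ := conj_fix hE s' t' h hh hnc
  exact ⟨h', h'.2, congrArg Subtype.val hh'⟩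

/-- An involution of `Q` not conjugate to `z` corresponds to a minimal vector. -/
theorem exists_short [Finite G] (hz2 : orderOf z = 2)
    (hF : generalizedFittingSubgroup (Subgroup.centralizer ({z} : Set G)) = Q)
    (hE : IsExtraspecial 2 Q)
    {e : (Subgroup.centralizer ({z} : Set G)) ⧸ Q ≃* Spor.Co1}
    {ψ : leechLattice → Q ⧸ Subgroup.center Q} (hψ : IsLeechModTwoIso Q e ψ)
    (h5407 : ∀ (x : Q),
      (IsConj z ((x : Subgroup.centralizer ({z} : Set G)) : G) ∧
        ((x : Subgroup.centralizer ({z} : Set G)) : G) ≠ z) ↔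
      ∃ v : leechLattice, sqNorm (v : GolayPt → ℤ) = 64 ∧ ψ v = QuotientGroup.mk x)
    (x : Q) (hx2 : orderOf ((x : Subgroup.centralizer ({z} : Set G)) : G) = 2)
    (hx : ¬ IsConj z ((x : Subgroup.centralizer ({z} : Set G)) : G)) :
    ∃ y : leechLattice, sqNorm (y : GolayPt → ℤ) = 32 ∧ ψ y = QuotientGroup.mk x := by
  have hψ' := hψ
  obtain ⟨hadd, hsurj, hker, hequiv⟩ := hψ
  obtain ⟨v, hv⟩ := hsurj (QuotientGroup.mk x)
  obtain ⟨y, hy, hy64, w, hw, hvy⟩ := Cfsg.Agent.S1570.result (v : GolayPt → ℤ) v.2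
  have hψy : ψ ⟨y, hy⟩ = QuotientGroup.mk x := by
    rw [← hv]
    exact (psi_congr hψ' v ⟨y, hy⟩ w hw hvy).symm
  have hxne1 : x ≠ 1 := by
    intro h
    have h1 : ((x : Subgroup.centralizer ({z} : Set G)) : G) = 1 :=
      congrArg (fun q : Q => ((q : Subgroup.centralizer ({z} : Set G)) : G)) h
    rw [h1, orderOf_one] at hx2
    exact absurd hx2 (by decide)
  have hxnc : x ∉ Subgroup.center Q := by
    intro hcen
    rcases (mem_center_iff hz2 hF hE x).mp hcen with h | h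
    · exact hxne1 h
    · apply hx; rw [h]
  by_cases hy0 : y = 0
  · exfalso
    apply hxnc
    have h0 : (⟨y, hy⟩ : leechLattice) = 0 := Subtype.ext hy0
    rw [h0, Cfsg.Agent.Lib.Helper1.MonQ.psi_zero ψ hker] at hψy
    exact (QuotientGroup.eq_one_iff x).mp hψy.symm
  · have h32 := Cfsg.Agent.S0391.result y hy hy0
    have h16 := Cfsg.Agent.S0392.result y hy
    have hcases : sqNorm y = 32 ∨ sqNorm y = 48 ∨ sqNorm y = 64 := by
      obtain ⟨k, hk⟩ := h16
      omega
    rcases hcases with h | h | h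
    · exact ⟨⟨y, hy⟩, h, hψy⟩
    · exfalso
      have hx2' : x ^ 2 = 1 := by
        apply Subtype.ext
        apply Subtype.ext
        simp only [Subgroup.coe_pow, Subgroup.coe_one]
        rw [← hx2]; exact pow_orderOf_eq_one _
      have hf := Cfsg.Agent.Lib.Helper1.MonQ.Qf_formula hE ψ hadd hsurj hker (hinv_of hψ') ⟨y, hy⟩
      rw [Cfsg.Agent.Lib.Helper1.MonQ.Qf_eq hE ψ _ x hψy] at hf
      have hsq : Cfsg.Agent.Lib.Helper1.MonQ.sq x = 0 :=
        (Cfsg.Agent.Lib.Helper1.MonQ.sq_eq_zero_iff x).mpr hx2'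
      rw [hsq] at hf
      have h48 : sqNorm ((⟨y, hy⟩ : leechLattice) : GolayPt → ℤ) = 48 := h
      rw [h48] at hf
      revert hf
      decide
    · exfalso
      exact hx ((h5407 x).mpr ⟨⟨y, hy⟩, h, hψy⟩).1

/-- Transitivity on the involutions of `Q` not conjugate to `z`. -/
theorem trans_nonconj [Finite G] (hM : IsOfMonsterType z Q)
    (h5407 : ∀ (e : (Subgroup.centralizer ({z} : Set G)) ⧸ Q ≃* Spor.Co1)
      (ψ : leechLattice → Q ⧸ Subgroup.center Q) (_ : IsLeechModTwoIso Q e ψ) (x : Q),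
      (IsConj z ((x : Subgroup.centralizer ({z} : Set G)) : G) ∧
        ((x : Subgroup.centralizer ({z} : Set G)) : G) ≠ z) ↔
      ∃ v : leechLattice, sqNorm (v : GolayPt → ℤ) = 64 ∧ ψ v = QuotientGroup.mk x)
    (s t : G)
    (hsQ : ∃ hsc : s ∈ Subgroup.centralizer ({z} : Set G),
      (⟨s, hsc⟩ : Subgroup.centralizer ({z} : Set G)) ∈ Q)
    (htQ : ∃ htc : t ∈ Subgroup.centralizer ({z} : Set G),
      (⟨t, htc⟩ : Subgroup.centralizer ({z} : Set G)) ∈ Q)
    (hs2 : orderOf s = 2) (ht2 : orderOf t = 2) (hs : ¬ IsConj z s) (ht : ¬ IsConj z t) :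
    ∃ h ∈ Subgroup.centralizer ({z} : Set G), h * s * h⁻¹ = t := by
  obtain ⟨⟨hz2, hF, hE, -, -⟩, e, ψ, hψ⟩ := hM
  obtain ⟨hsc, hsQ'⟩ := hsQ
  obtain ⟨htc, htQ'⟩ := htQ
  set s' : Q := ⟨⟨s, hsc⟩, hsQ'⟩ with hs'
  set t' : Q := ⟨⟨t, htc⟩, htQ'⟩ with ht'
  obtain ⟨vs, hvs32, hvs⟩ := exists_short hz2 hF hE hψ (h5407 e ψ hψ) s' hs2 hs
  obtain ⟨vt, hvt32, hvt⟩ := exists_short hz2 hF hE hψ (h5407 e ψ hψ) t' ht2 ht
  obtain ⟨g, hg⟩ := Cfsg.Agent.S0400.result vs vt hvs32 hvt32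
  have hnc : t' ∉ Subgroup.center Q := by
    intro hcen
    rcases (mem_center_iff hz2 hF hE t').mp hcen with h | h
    · have h1 : t = 1 := congrArg (fun q : Q => ((q : Subgroup.centralizer ({z} : Set G)) : G)) h
      rw [h1, orderOf_one] at ht2
      exact absurd ht2 (by decide)
    · apply ht
      have h1 : t = z := h
      rw [h1]
  obtain ⟨h, hh⟩ := lift_conj hψ s' t' vs vt hvs hvt g (by rw [hg])
  obtain ⟨h', hh'⟩ := conj_fix hE s' t' h hh hnc
  exact ⟨h', h'.2, congrArg Subtype.val hh'⟩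

end Cfsg.Agent.Lib.Helper5.Mon
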